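import Cfsg.Agent.Lib.ONanNormal.Setup
import Mathlib.GroupTheory.Index
import Mathlib.Tactic.Linarith

/-!
# Every element of `N x` has a fixed point on every line

For `x` off the line `m` through `y` and `z`, the subgroups `N x ∩ G_w`, `w ∈ m`, meet in
`N x ∩ G_y ∩ G_z`, and the two estimates `cR_mul_le`, `le_cR_mul` force them to cover `N x`.
-/

set_option autoImplicit false
set_option linter.unusedSectionVars false

open MulAction

namespace CfsgLib.ONanNormal

variable {G X : Type*} [Group G] [MulAction G X] {N : X → Subgroup G}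

theorem card_mul_relIndex {H K : Subgroup G} (h : H ≤ K) :
    Nat.card H * H.relIndex K = Nat.card K := by
  rw [← Subgroup.relIndex_bot_left, ← Subgroup.relIndex_bot_left,
    Subgroup.relIndex_mul_relIndex ⊥ H K bot_le h]

variable [Finite G] [Finite X]

omit [Finite X] [Finite G] in
theorem Sys.smul_mem_line_iff (S : Sys G X N) (g : G) {a b z : X} :
    g • z ∈ line N (g • a) (g • b) ↔ z ∈ line N a b := by
  constructor
  · intro h e he
    have he' : g * e * g⁻¹ ∈ L N (g • a) (g • b) :=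
      mem_L.2 ⟨S.conj g a e he.1, by rw [mul_smul, mul_smul, inv_smul_smul, he.2]⟩
    have := h _ he'
    rw [mul_smul, mul_smul, inv_smul_smul] at this
    exact MulAction.injective g this
  · intro h e he
    have he' : g⁻¹ * e * g ∈ L N a b := mem_L.2 ⟨by
      have := S.conj g⁻¹ (g • a) e he.1
      simpa using this, by rw [mul_smul, mul_smul, he.2, inv_smul_smul]⟩
    have := h _ he'
    rw [mul_smul, mul_smul, inv_smul_eq_iff] at this
    exact this

omit [Finite G] in
theorem Sys.ncard_line_eq (S : Sys G X N) {a b c d : X} (hab : a ≠ b) (hcd : c ≠ d) :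
    (line N a b).ncard = (line N c d).ncard := by
  obtain ⟨g, hga, hgb⟩ := S.two a b c d hab hcd
  rw [← hga, ← hgb, ← Set.ncard_image_of_injective (line N a b) (MulAction.injective g)]
  congr 1
  ext w
  refine ⟨?_, fun hw => ⟨g⁻¹ • w, ?_, smul_inv_smul g w⟩⟩
  · rintro ⟨z, hz, rfl⟩
    exact (S.smul_mem_line_iff g).2 hz
  · rwa [← S.smul_mem_line_iff g, smul_inv_smul]

omit [Finite X] [Finite G] in
/-- No line contains all points. -/
theorem Sys.exists_not_mem_line (S : Sys G X N) {y z : X} (hyz : y ≠ z) : ∃ x, x ∉ line N y z := by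
  by_contra hc
  push Not at hc
  obtain ⟨n, hn, hn1, hnz⟩ := S.nsr y z hyz
  exact hn1 (S.faithful n fun w => hc w n ⟨hn, hnz⟩)

omit [Finite X] in
theorem Sys.card_N_eq (S : Sys G X N) {x y : X} (hxy : x ≠ y) :
    Nat.card (N x) = Nat.card (N y) := by
  obtain ⟨g, hgx, -⟩ := S.two x y y x hxy hxy.symm
  refine Nat.card_congr (Equiv.subtypeEquiv (MulAut.conj g).toEquiv fun n => ?_)
  show n ∈ N x ↔ g * n * g⁻¹ ∈ N y
  rw [← hgx, S.conj_iff]

omit [Finite G] [Finite X] in
theorem Sys.exists_L_moves (S : Sys G X N) {x y z : X} (hz : z ∉ line N x y) :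
    ∃ a ∈ L N x y, a • z ≠ z := by
  by_contra hc
  push Not at hc
  exact hz hc

theorem Sys.cR_mul_le (S : Sys G X N) {x y z : X} (hxy : x ≠ y) (hxz : x ≠ z) :
    Nat.card (L N x y) * Nat.card (L N x y) ≤ Nat.card (R N x y z) * Nat.card (N x) := by
  have h1 : (R N x y z).relIndex (L N x y) ≤ (L N x z).relIndex (N x) := by
    have e : R N x y z = L N x z ⊓ L N x y := by
      ext g
      rw [Subgroup.mem_inf, mem_R, mem_L, mem_L]
      exact ⟨fun h => ⟨⟨h.1, h.2.2⟩, h.1, h.2.1⟩, fun h => ⟨h.1.1, h.2.2, h.1.2⟩⟩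
    rw [e, Subgroup.inf_relIndex_right]
    exact Subgroup.relIndex_le_of_le_right inf_le_left Subgroup.index_ne_zero_of_finite
  have h2 := card_mul_relIndex (R_le_L (N := N) x y z)
  have h3 := card_mul_relIndex (show L N x z ≤ N x from inf_le_left)
  rw [S.card_L_eq hxz.symm.symm hxy] at h3
  calc Nat.card (L N x y) * Nat.card (L N x y)
      = Nat.card (R N x y z) * (R N x y z).relIndex (L N x y) * Nat.card (L N x y) := by rw [h2]
    _ ≤ Nat.card (R N x y z) * (L N x z).relIndex (N x) * Nat.card (L N x y) := by gcongr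
    _ = Nat.card (R N x y z) * Nat.card (N x) := by rw [← h3]; ring

theorem Sys.le_cR_mul (S : Sys G X N) {x y z : X} (hxy : x ≠ y) (hz : z ∉ line N x y) :
    Nat.card (R N x y z) * Nat.card (N x) ≤ Nat.card (L N x y) * Nat.card (L N x y) := by
  have hzx : z ≠ x := fun e => hz (by rw [e]; exact S.left_mem_line x y)
  have hzy : z ≠ y := fun e => hz (by rw [e]; exact right_mem_line x y)
  obtain ⟨a, ha, haz⟩ := S.exists_L_moves hz
  have hax : a • x = x := S.le x a ha.1
  have hline : line N y x = line N x y := S.line_comm hxy.symm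
  -- the conjugate of `a` by an element of `N y` fixes the line pointwise
  have hconj : ∀ n ∈ N y, ∀ w ∈ line N x y, (n * a⁻¹ * n⁻¹) • w = w := by
    intro n hn w hw
    have hny : n • y = y := S.le y n hn
    have hm : n • x ∈ line N x y := hline ▸ S.smul_mem_line hn
    have hne : n • x ≠ y := fun e => hxy (MulAction.injective n (e.trans hny.symm))
    have hmem : n * a⁻¹ * n⁻¹ ∈ L N (n • x) y := mem_L.2 ⟨S.conj n x _ (inv_mem ha.1), by
      rw [mul_smul, mul_smul, inv_smul_eq_iff.2 hny.symm, inv_smul_eq_iff.2 ha.2.symm, hny]⟩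
    exact (show w ∈ line N (n • x) y by
      rw [S.line_eq hxy hm (right_mem_line x y) hne]; exact hw) _ hmem
  have hc : ∀ n ∈ N y, a * n * a⁻¹ * n⁻¹ ∈ L N y x := fun n hn => mem_L.2
    ⟨mul_mem (S.conj_fix ha.2 hn) (inv_mem hn), by
      rw [show a * n * a⁻¹ * n⁻¹ = a * (n * a⁻¹ * n⁻¹) by group, mul_smul,
        hconj n hn x (S.left_mem_line x y), hax]⟩
  let φ : ↥(N y) →* ↥(L N y x) := MonoidHom.mk' (fun n => ⟨a * n.1 * a⁻¹ * n.1⁻¹, hc n.1 n.2⟩)
    fun n m => Subtype.ext (by
      show a * (n.1 * m.1) * a⁻¹ * (n.1 * m.1)⁻¹ = a * n.1 * a⁻¹ * n.1⁻¹ * (a * m.1 * a⁻¹ * m.1⁻¹)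
      have h1 : n.1⁻¹ * (a * m.1 * a⁻¹) = a * m.1 * a⁻¹ * n.1⁻¹ :=
        S.comm y _ (inv_mem n.2) _ (S.conj_fix ha.2 m.2)
      have h2 : n.1⁻¹ * m.1⁻¹ = m.1⁻¹ * n.1⁻¹ := S.comm y _ (inv_mem n.2) _ (inv_mem m.2)
      calc a * (n.1 * m.1) * a⁻¹ * (n.1 * m.1)⁻¹
          = a * n.1 * a⁻¹ * ((a * m.1 * a⁻¹) * (m.1⁻¹ * n.1⁻¹)) := by group
        _ = a * n.1 * a⁻¹ * ((a * m.1 * a⁻¹) * (n.1⁻¹ * m.1⁻¹)) := by rw [h2]
        _ = a * n.1 * a⁻¹ * ((a * m.1 * a⁻¹ * n.1⁻¹) * m.1⁻¹) := by group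
        _ = a * n.1 * a⁻¹ * ((n.1⁻¹ * (a * m.1 * a⁻¹)) * m.1⁻¹) := by rw [h1]
        _ = _ := by group)
  have key : ((R N y x z).subgroupOf (L N y x)).comap φ = (L N y x).subgroupOf (N y) := by
    ext n
    rw [Subgroup.mem_comap, Subgroup.mem_subgroupOf, Subgroup.mem_subgroupOf]
    have hφ : ((φ n : L N y x) : G) = a * n.1 * a⁻¹ * n.1⁻¹ := rfl
    constructor
    · intro h
      rw [hφ] at h
      obtain ⟨-, -, h⟩ := mem_R.1 h
      refine mem_L.2 ⟨n.2, ?_⟩
      by_contra hnx
      rw [show a * n.1 * a⁻¹ * n.1⁻¹ = a * (n.1 * a⁻¹ * n.1⁻¹) by group, mul_smul] at h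
      have h' : (n.1 * a⁻¹ * n.1⁻¹) • z = a⁻¹ • z := eq_inv_smul_iff.2 h
      have haz' : a⁻¹ • z ≠ z := fun e => haz (inv_smul_eq_iff.1 e).symm
      have hm : n.1 • x ∈ line N x y := hline ▸ S.smul_mem_line n.2
      have hnxz : n.1 • x ≠ z := fun e => hz (e ▸ hm)
      have e1 : line N z (a⁻¹ • z) = line N x z :=
        S.line_eq hzx.symm (right_mem_line x z) (S.smul_mem_line (inv_mem ha.1)) haz'.symm
      have e2 : line N z (a⁻¹ • z) = line N (n.1 • x) z :=
        S.line_eq hnxz (right_mem_line _ z)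
          (h' ▸ S.smul_mem_line (S.conj n.1 x _ (inv_mem ha.1))) haz'.symm
      have hxn : n.1 • x ∈ line N x z := by
        rw [← e1, e2]; exact S.left_mem_line _ z
      have e3 : line N x (n.1 • x) = line N x z :=
        S.line_eq hzx.symm (S.left_mem_line x z) hxn (Ne.symm hnx)
      have e4 : line N x (n.1 • x) = line N x y :=
        S.line_eq hxy (S.left_mem_line x y) hm (Ne.symm hnx)
      exact hz (e4 ▸ e3 ▸ right_mem_line x z)
    · intro h
      have hcm : a * n.1 = n.1 * a := S.commute_cross hxy ha.1 n.2 ha.2 (mem_L.1 h).2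
      rw [hφ, hcm, mul_inv_cancel_right, mul_inv_cancel]
      exact one_mem _
  have h1 : (L N y x).relIndex (N y) ≤ (R N y x z).relIndex (L N y x) := by
    show ((L N y x).subgroupOf (N y)).index ≤ ((R N y x z).subgroupOf (L N y x)).index
    rw [← key, Subgroup.index_comap, ← Subgroup.relIndex_top_right]
    exact Subgroup.relIndex_le_of_le_right le_top Subgroup.index_ne_zero_of_finite
  have h2 := card_mul_relIndex (R_le_L (N := N) y x z)
  have h3 := card_mul_relIndex (show L N y x ≤ N y from inf_le_left)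
  rw [S.card_R_eq hxy hzy.symm hzx.symm, S.card_N_eq hxy, S.card_L_eq hxy hxy.symm]
  calc Nat.card (R N y x z) * Nat.card (N y)
      = Nat.card (R N y x z) * (L N y x).relIndex (N y) * Nat.card (L N y x) := by rw [← h3]; ring
    _ ≤ Nat.card (R N y x z) * (R N y x z).relIndex (L N y x) * Nat.card (L N y x) := by gcongr
    _ = Nat.card (L N y x) * Nat.card (L N y x) := by rw [h2]

/-- The counting argument at a point off a line. -/
theorem Sys.cover (S : Sys G X N) {x y z : X} (hyz : y ≠ z) (hx : x ∉ line N y z) :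
    3 ≤ (line N y z).ncard ∧ ∀ a ∈ N x, ∃ w ∈ line N y z, a • w = w := by
  classical
  have hxy : x ≠ y := fun e => hx (by rw [e]; exact S.left_mem_line y z)
  have hxz : x ≠ z := fun e => hx (by rw [e]; exact right_mem_line y z)
  have hz : z ∉ line N x y := fun h => hx (by
    rw [S.line_eq hxy (right_mem_line x y) h hyz]; exact S.left_mem_line x y)
  set cL := Nat.card (L N x y) with hcL
  set cR := Nat.card (R N x y z) with hcR
  set m := line N y z with hm
  set t := (R N x y z).relIndex (L N x y) with htdef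
  have ht : cR * t = cL := card_mul_relIndex (R_le_L x y z)
  have hprod : cR * Nat.card (N x) = cL * cL :=
    le_antisymm (S.le_cR_mul hxy hz) (S.cR_mul_le hxy hxz)
  have hR0 : 0 < cR := Nat.card_pos
  have hL0 : 0 < cL := Nat.card_pos
  have hcN : Nat.card (N x) = t * cL := by
    apply Nat.eq_of_mul_eq_mul_left hR0
    rw [hprod, ← ht]; ring
  have ht1 : t ≠ 1 := by
    intro e
    obtain ⟨a, ha, haz⟩ := S.exists_L_moves hz
    exact haz (mem_R.1 (Subgroup.relIndex_eq_one.1 e ha)).2.2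
  have ht0 : t ≠ 0 := fun e => by rw [e, mul_zero] at ht; omega
  -- the orbit of `y` lies on the line through `x`
  have horb : t + 1 ≤ m.ncard := by
    have h1 : stabilizer (N x) y = (L N x y).subgroupOf (N x) := by
      ext n
      rw [mem_stabilizer_iff, Subgroup.mem_subgroupOf, mem_L]
      exact ⟨fun h => ⟨n.2, h⟩, fun h => h.2⟩
    have h2 : (orbit (N x) y).ncard = t := by
      rw [← MulAction.index_stabilizer, h1]
      show (L N x y).relIndex (N x) = t
      apply Nat.eq_of_mul_eq_mul_left hL0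
      rw [hcL, card_mul_relIndex (show L N x y ≤ N x from inf_le_left), hcN, mul_comm]
    have h3 : x ∉ orbit (N x) y := by
      rintro ⟨n, hn⟩
      exact hxy (MulAction.injective (n : G) (hn.trans (S.le x _ n.2).symm)).symm
    have h4 : insert x (orbit (N x) y) ⊆ line N x y := by
      rintro w (rfl | ⟨n, rfl⟩)
      · exact S.left_mem_line _ y
      · exact S.smul_mem_line n.2
    have := Set.ncard_le_ncard h4
    rw [Set.ncard_insert_of_notMem h3, h2, S.ncard_line_eq hxy hyz] at this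
    exact this
  -- the pieces
  have := Fintype.ofFinite X
  have := Fintype.ofFinite G
  let D : X → Set G := fun w => (L N x w : Set G) \ (R N x y z : Set G)
  have hRw : ∀ w ∈ m, R N x y z ≤ L N x w := fun w hw g hg =>
    mem_L.2 ⟨(mem_R.1 hg).1, S.fix_line (mem_R.1 hg).1 hyz (mem_R.1 hg).2.1 (mem_R.1 hg).2.2 hw⟩
  have hDcard : ∀ w ∈ m, (D w).ncard + cR = cL := by
    intro w hw
    have hxw : x ≠ w := fun e => hx (e ▸ hw)
    rw [hcL, ← S.card_L_eq hxw hxy]
    exact Set.ncard_sdiff_add_ncard_of_subset (s := (R N x y z : Set G)) (t := (L N x w : Set G))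
      (hRw w hw)
  have hdisj : (m : Set X).PairwiseDisjoint D := by
    intro v hv w hw hvw
    rw [Function.onFun, Set.disjoint_left]
    rintro g ⟨hgv, hgR⟩ ⟨hgw, -⟩
    have e : line N v w = m := S.line_eq hyz hv hw hvw
    exact hgR (mem_R.2 ⟨hgv.1, S.fix_line hgv.1 hvw hgv.2 hgw.2 (e.symm ▸ S.left_mem_line y z),
      S.fix_line hgv.1 hvw hgv.2 hgw.2 (e.symm ▸ right_mem_line y z)⟩)
  have hU : (⋃ w ∈ m, D w).ncard = ∑ w ∈ m.toFinset, (D w).ncard := by
    rw [Set.ncard_eq_toFinset_card']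
    rw [show (⋃ w ∈ m, D w).toFinset = m.toFinset.biUnion fun w => (D w).toFinite.toFinset by
      ext g; simp]
    rw [Finset.card_biUnion]
    · refine Finset.sum_congr rfl fun w _ => ?_
      rw [Set.ncard_eq_toFinset_card]
    · intro v hv w hw hvw
      simp only [Finset.mem_coe, Set.mem_toFinset] at hv hw
      show Disjoint _ _
      rw [Set.Finite.disjoint_toFinset]
      exact hdisj hv hw hvw
  obtain ⟨j, hj⟩ : ∃ j, t = j + 2 := ⟨t - 2, by omega⟩
  have hDval : ∀ w ∈ m, (D w).ncard = (j + 1) * cR := fun w hw => by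
    have := hDcard w hw
    rw [← ht, hj] at this
    linarith
  rw [Finset.sum_congr rfl (fun w hw => hDval w (Set.mem_toFinset.1 hw)), Finset.sum_const,
    smul_eq_mul, ← Set.ncard_eq_toFinset_card'] at hU
  have hsub : (⋃ w ∈ m, D w) ⊆ (N x : Set G) \ (R N x y z : Set G) := by
    intro g hg
    simp only [Set.mem_iUnion] at hg
    obtain ⟨w, hw, hg, hgR⟩ := hg
    exact ⟨hg.1, hgR⟩
  have hNR : ((N x : Set G) \ (R N x y z : Set G)).ncard + cR = (j + 2) * (j + 2) * cR := by
    have h : ((N x : Set G) \ (R N x y z : Set G)).ncard + cR = Nat.card (N x) :=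
      Set.ncard_sdiff_add_ncard_of_subset (s := (R N x y z : Set G)) (t := (N x : Set G))
        fun g hg => hg.1.1
    rw [h, hcN, ← ht, hj]; ring
  have hle := Set.ncard_le_ncard hsub
  rw [hU] at hle
  have hk : m.ncard ≤ j + 3 := by
    by_contra hc
    push Not at hc
    have : (j + 4) * ((j + 1) * cR) ≤ m.ncard * ((j + 1) * cR) := Nat.mul_le_mul_right _ hc
    nlinarith
  have hkeq : m.ncard = j + 3 := by omega
  refine ⟨by omega, fun a ha => ?_⟩
  by_cases haR : a ∈ R N x y z
  · exact ⟨y, S.left_mem_line y z, (mem_R.1 haR).2.1⟩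
  have heq := Set.eq_of_subset_of_ncard_le hsub (by rw [hU, hkeq]; nlinarith)
  have : a ∈ ⋃ w ∈ m, D w := by rw [heq]; exact ⟨ha, haR⟩
  simp only [Set.mem_iUnion] at this
  obtain ⟨w, hw, haw, -⟩ := this
  exact ⟨w, hw, haw.2⟩

theorem Sys.three_le_line (S : Sys G X N) {y z : X} (hyz : y ≠ z) : 3 ≤ (line N y z).ncard := by
  obtain ⟨x, hx⟩ := S.exists_not_mem_line hyz
  exact (S.cover hyz hx).1

/-- Every element of `N x` fixes a point of every line. -/
theorem Sys.meets (S : Sys G X N) {x y z : X} {a : G} (ha : a ∈ N x) (hyz : y ≠ z) :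
    ∃ w ∈ line N y z, a • w = w := by
  by_cases hx : x ∈ line N y z
  · exact ⟨x, hx, S.le x a ha⟩
  · exact (S.cover hyz hx).2 a ha

end CfsgLib.ONanNormal
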