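import Cfsg.Agent.Lib.ONanNormal.Cover
import Cfsg.Agent.Lib.ItoDesign63.Main
import Mathlib.LinearAlgebra.Matrix.Rank

/-!
# Axes are hyperplanes

The fixed-point sets of non-identity elements of the `N x` form a symmetric design with the points,
so the stabiliser of one of them satisfies the hypotheses of Ito's theorem
(`CfsgLib.ItoDesign63.main`).
-/

set_option autoImplicit false
set_option linter.unusedSectionVars false

open MulAction Matrix
open scoped Pointwise

namespace CfsgLib.ONanNormal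

/-- Fisher's inequality: sets with constant pairwise intersections are no more than the points. -/
theorem fisher {α β : Type*} [Finite α] [Finite β] (I : α → β → Prop) (k l : ℕ) (hlk : l < k)
    (hk : ∀ a, {b | I a b}.ncard = k) (hl : ∀ a a', a ≠ a' → {b | I a b ∧ I a' b}.ncard = l) :
    Nat.card α ≤ Nat.card β := by
  classical
  have := Fintype.ofFinite α
  have := Fintype.ofFinite β
  let M : Matrix α β ℚ := Matrix.of fun a b => if I a b then 1 else 0
  let J : Matrix α α ℚ := Matrix.of fun _ _ => 1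
  have hMM : M * Mᵀ = ((k : ℚ) - l) • (1 : Matrix α α ℚ) + (l : ℚ) • J := by
    ext a a'
    simp only [M, J, Matrix.mul_apply, Matrix.transpose_apply, Matrix.of_apply, Matrix.add_apply,
      Matrix.smul_apply, smul_eq_mul, mul_one, ite_zero_mul_ite_zero]
    rw [← Finset.natCast_card_filter]
    have e : (Finset.univ.filter fun b => I a b ∧ I a' b).card = {b | I a b ∧ I a' b}.ncard := by
      rw [Set.ncard_eq_toFinset_card']; congr 1; ext b; simp
    rw [e]
    by_cases h : a = a'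
    · subst h
      rw [show {b | I a b ∧ I a b} = {b | I a b} by simp, hk, Matrix.one_apply_eq]
      ring
    · rw [hl a a' h, Matrix.one_apply_ne h]
      ring
  have hkl : (k : ℚ) - l ≠ 0 := sub_ne_zero.2 (by exact_mod_cast hlk.ne')
  have hpos : (0 : ℚ) < (k : ℚ) - l + l * Fintype.card α := by
    have : (l : ℚ) < k := by exact_mod_cast hlk
    have h2 : (0 : ℚ) ≤ (l : ℚ) * Fintype.card α := by positivity
    linarith
  have hJJ : J * J = (Fintype.card α : ℚ) • J := by
    ext a b; simp [J, Matrix.mul_apply]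
  have hinv : (((k : ℚ) - l) • (1 : Matrix α α ℚ) + (l : ℚ) • J) *
      (((k : ℚ) - l)⁻¹ • ((1 : Matrix α α ℚ) - ((l : ℚ) / ((k : ℚ) - l + l * Fintype.card α)) • J))
        = 1 := by
    simp only [Matrix.mul_smul, Matrix.mul_sub, Matrix.add_mul, Matrix.smul_mul, Matrix.one_mul,
      Matrix.mul_one, hJJ, smul_add, smul_sub, smul_smul]
    ext a b
    simp only [J, Matrix.add_apply, Matrix.sub_apply, Matrix.smul_apply, smul_eq_mul,
      Matrix.of_apply]
    field_simp
    ring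
  have hu : IsUnit (M * Mᵀ) :=
    (Matrix.isUnit_iff_isUnit_det _).2 (Matrix.isUnit_det_of_right_inverse (hMM ▸ hinv))
  have h1 := Matrix.rank_of_isUnit _ hu
  have h2 := (Matrix.rank_mul_le_left M Mᵀ).trans (Matrix.rank_le_card_width M)
  rw [Nat.card_eq_fintype_card, Nat.card_eq_fintype_card, ← h1]
  exact h2

variable {G X : Type*} [Group G] [MulAction G X] {N : X → Subgroup G}

/-- A geometric hyperplane. -/
structure IsHyp (N : X → Subgroup G) (H : Set X) : Prop where
  closed : ∀ p q, p ∈ H → q ∈ H → p ≠ q → line N p q ⊆ H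
  meets : ∀ p q, p ≠ q → ∃ w ∈ line N p q, w ∈ H
  proper : ∃ z, z ∉ H
  two : ∃ p ∈ H, ∃ q ∈ H, p ≠ q

variable [Finite G] [Finite X]

omit [Finite X] [Finite G] in
theorem IsHyp.smul (S : Sys G X N) {H : Set X} (hH : IsHyp N H) (g : G) : IsHyp N (g • H) := by
  refine ⟨fun p q hp hq hpq w hw => ?_, fun p q hpq => ?_, ?_, ?_⟩
  · rw [Set.mem_smul_set_iff_inv_smul_mem] at hp hq ⊢
    exact hH.closed _ _ hp hq (fun e => hpq (MulAction.injective g⁻¹ e))
      ((S.smul_mem_line_iff g⁻¹).2 hw)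
  · obtain ⟨w, hw, hwH⟩ := hH.meets (g⁻¹ • p) (g⁻¹ • q) fun e => hpq (MulAction.injective g⁻¹ e)
    refine ⟨g • w, ?_, Set.smul_mem_smul_set hwH⟩
    have := (S.smul_mem_line_iff g).2 hw
    rwa [smul_inv_smul, smul_inv_smul] at this
  · obtain ⟨z, hz⟩ := hH.proper
    exact ⟨g • z, fun h => hz (Set.smul_mem_smul_set_iff.1 h)⟩
  · obtain ⟨p, hp, q, hq, hpq⟩ := hH.two
    exact ⟨g • p, Set.smul_mem_smul_set hp, g • q, Set.smul_mem_smul_set hq,
      fun e => hpq (MulAction.injective g e)⟩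

theorem Sys.card_sub_of_unique (S : Sys G X N) {z : X} {P : Set X} {A : Set X}
    (hzP : z ∉ P) (hzA : z ∉ A)
    (hA : ∀ p ∈ P, ∀ w ∈ line N z p, w ≠ z → w ∈ A)
    (hex : ∀ w ∈ A, ∃ p ∈ P, w ∈ line N z p)
    (huni : ∀ p ∈ P, ∀ q ∈ P, p ≠ q → q ∉ line N z p) {k : ℕ}
    (hk : ∀ p ∈ P, (line N z p).ncard = k) : A.ncard = P.ncard * (k - 1) := by
  classical
  have := Fintype.ofFinite X
  have hA' : A.toFinset = P.toFinset.biUnion fun p => (line N z p \ {z}).toFinset := by
    ext w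
    simp only [Set.mem_toFinset, Finset.mem_biUnion, Set.mem_sdiff, Set.mem_singleton_iff]
    refine ⟨fun hw => ?_, ?_⟩
    · obtain ⟨p, hp, hwp⟩ := hex w hw
      exact ⟨p, hp, hwp, fun e => hzA (e ▸ hw)⟩
    · rintro ⟨p, hp, hw, hwz⟩
      exact hA p hp w hw hwz
  rw [Set.ncard_eq_toFinset_card', hA', Finset.card_biUnion]
  · rw [Finset.sum_congr rfl (g := fun _ => k - 1) ?_, Finset.sum_const, smul_eq_mul,
      ← Set.ncard_eq_toFinset_card']
    intro p hp
    rw [← Set.ncard_eq_toFinset_card', Set.ncard_sdiff_singleton_of_mem (S.left_mem_line z p),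
      hk p (Set.mem_toFinset.1 hp)]
  · intro p hp q hq hpq
    rw [Finset.mem_coe, Set.mem_toFinset] at hp hq
    show Disjoint _ _
    rw [Finset.disjoint_left]
    intro w hw hw'
    rw [Set.mem_toFinset] at hw hw'
    have hzp : z ≠ p := fun e => hzP (e ▸ hp)
    have hzq : z ≠ q := fun e => hzP (e ▸ hq)
    have hwz : w ≠ z := hw.2
    apply huni p hp q hq hpq
    rw [← S.line_eq_left hzp hw.1 hwz, S.line_eq_left hzq hw'.1 hwz]
    exact right_mem_line z q

/-- A hyperplane has the same size as every other one: `(v - 1) / (k - 1)`. -/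
theorem IsHyp.card_eq (S : Sys G X N) {H : Set X} (hH : IsHyp N H) {k : ℕ}
    (hk : ∀ a b : X, a ≠ b → (line N a b).ncard = k) :
    Nat.card X - 1 = H.ncard * (k - 1) := by
  obtain ⟨z, hz⟩ := hH.proper
  have h := S.card_sub_of_unique (P := H) (A := {z}ᶜ) hz (by simp)
    (fun p _ w _ hwz => hwz)
    (fun w hw => by
      have hzw : z ≠ w := Ne.symm hw
      obtain ⟨p, hp, hpH⟩ := hH.meets z w hzw
      have hpz : p ≠ z := fun e => hz (e ▸ hpH)
      refine ⟨p, hpH, ?_⟩
      rw [S.line_eq_left hzw hp hpz]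
      exact right_mem_line z w)
    (fun p hp q hq hpq hql => hz (hH.closed p q hp hq hpq (by
      have hzp : z ≠ p := fun e => hz (e ▸ hp)
      rw [S.line_eq hzp (right_mem_line z p) hql hpq]
      exact S.left_mem_line z p)))
    (fun p hp => hk z p fun e => hz (e ▸ hp))
  rw [← h, Set.ncard_compl, Set.ncard_singleton]

omit [Finite X] in
theorem IsHyp.not_mem_of_ne {H H' : Set X} [Finite X] (h : H.ncard = H'.ncard) (hne : H ≠ H') :
    ∃ z ∈ H, z ∉ H' := by
  by_contra hc
  push Not at hc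
  exact hne (Set.eq_of_subset_of_ncard_le hc h.ge)

/-- Two hyperplanes meet in a constant number of points. -/
theorem IsHyp.inter_card (S : Sys G X N) {H H' : Set X} (hH : IsHyp N H) (hH' : IsHyp N H')
    {z : X} (hz : z ∈ H) (hz' : z ∉ H') {k : ℕ}
    (hk : ∀ a b : X, a ≠ b → (line N a b).ncard = k) :
    H.ncard - 1 = (H ∩ H').ncard * (k - 1) := by
  have h := S.card_sub_of_unique (P := H ∩ H') (A := H \ {z}) (fun h => hz' h.2) (by simp)
    (fun p hp w hw hwz => ⟨hH.closed z p hz hp.1 (fun e => hz' (e ▸ hp.2)) hw, hwz⟩)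
    (fun w hw => by
      have hzw : z ≠ w := Ne.symm hw.2
      obtain ⟨p, hp, hpH⟩ := hH'.meets z w hzw
      have hpz : p ≠ z := fun e => hz' (e ▸ hpH)
      refine ⟨p, ⟨hH.closed z w hz hw.1 hzw hp, hpH⟩, ?_⟩
      rw [S.line_eq_left hzw hp hpz]
      exact right_mem_line z w)
    (fun p hp q hq hpq hql => hz' (hH'.closed p q hp.2 hq.2 hpq (by
      have hzp : z ≠ p := fun e => hz' (e ▸ hp.2)
      rw [S.line_eq hzp (right_mem_line z p) hql hpq]
      exact S.left_mem_line z p)))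
    (fun p hp => hk z p fun e => hz' (e ▸ hp.2))
  rw [← h, Set.ncard_sdiff_singleton_of_mem hz]

/-- The abstract conclusion of Ito's theorem for the stabiliser of an axis. -/
theorem Sys.exists_psl (S : Sys G X N) [FaithfulSMul G X] (hX : ∃ a b : X, a ≠ b) :
    ∃ (m : ℕ) (F : Type) (_ : Field F) (_ : Fintype F), 2 ≤ m ∧
      Nat.card X = (Fintype.card F ^ (m + 1) - 1) / (Fintype.card F - 1) ∧
      ∃ L : Subgroup G, L.Normal ∧
        Nonempty (L ≃* Matrix.ProjectiveSpecialLinearGroup (Fin (m + 1)) F) ∧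
        Subgroup.centralizer (L : Set G) = ⊥ := by
  classical
  obtain ⟨x, y, hxy⟩ := hX
  obtain ⟨k, hk⟩ : ∃ k, ∀ a b : X, a ≠ b → (line N a b).ncard = k :=
    ⟨_, fun a b hab => S.ncard_line_eq hab hxy⟩
  have hk3 : 3 ≤ k := hk x y hxy ▸ S.three_le_line hxy
  obtain ⟨a, ha, ha1, hay⟩ := S.nsr x y hxy
  set H : Set X := {w | a • w = w} with hHdef
  have hxH : x ∈ H := S.le x a ha
  have hyH : y ∈ H := hay
  have hH : IsHyp N H := by
    refine ⟨fun p q hp hq hpq w hw => S.fix_line ha hpq hp hq hw, fun p q hpq => ?_, ?_,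
      ⟨x, hxH, y, hyH, hxy⟩⟩
    · obtain ⟨w, hw, hwa⟩ := S.meets ha hpq
      exact ⟨w, hw, hwa⟩
    · by_contra hc
      push Not at hc
      exact ha1 (S.faithful a hc)
  obtain ⟨z, hz⟩ := hH.proper
  have hv := hH.card_eq S hk
  have hHpos : 1 < H.ncard := (Set.one_lt_ncard (Set.toFinite H)).2 ⟨x, hxH, y, hyH, hxy⟩
  set O := orbit G H with hO
  have hOhyp : ∀ E ∈ O, IsHyp N E ∧ E.ncard = H.ncard := by
    rintro E ⟨g, rfl⟩
    refine ⟨hH.smul S g, ?_⟩
    show (g • H).ncard = _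
    rw [← Set.image_smul, Set.ncard_image_of_injective _ (MulAction.injective g)]
  -- the intersection number
  obtain ⟨l, hl⟩ : ∃ l, ∀ E F : O, E ≠ F → (E.1 ∩ F.1).ncard = l ∧ l < H.ncard := by
    refine ⟨(H.ncard - 1) / (k - 1), fun E F hEF => ?_⟩
    obtain ⟨hE, hEc⟩ := hOhyp E.1 E.2
    obtain ⟨hF, hFc⟩ := hOhyp F.1 F.2
    obtain ⟨w, hw, hw'⟩ :=
      IsHyp.not_mem_of_ne (hEc.trans hFc.symm) (fun e => hEF (Subtype.ext e))
    have h := hE.inter_card S hF hw hw' hk
    rw [hEc] at h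
    have hk1 : 0 < k - 1 := by omega
    refine ⟨?_, ?_⟩
    · rw [h, Nat.mul_div_cancel _ hk1]
    · rw [h, Nat.mul_div_cancel _ hk1]
      have : (E.1 ∩ F.1).ncard * 1 ≤ (E.1 ∩ F.1).ncard * (k - 1) := Nat.mul_le_mul_left _ hk1
      omega
  have hOfin : Finite O := inferInstance
  have hle1 : Nat.card O ≤ Nat.card X := by
    by_cases hone : ∀ E F : O, E = F
    · have : Subsingleton O := ⟨hone⟩
      have h1 : Nat.card O ≤ 1 := Finite.card_le_one_iff_subsingleton.2 this
      have h2 : 0 < Nat.card X := Nat.card_pos_iff.2 ⟨⟨x⟩, inferInstance⟩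
      omega
    push Not at hone
    obtain ⟨E, F, hEF⟩ := hone
    exact fisher (fun (E : O) (w : X) => w ∈ E.1) H.ncard l (hl E F hEF).2
      (fun E => (hOhyp E.1 E.2).2) fun E F h => (hl E F h).1
  -- points are separated by the axes
  have hsep : ∀ p q : X, p ≠ q → ∃ E : O, p ∈ E.1 ∧ q ∉ E.1 := by
    intro p q hpq
    obtain ⟨g, hgp, hgq⟩ := S.two x z p q (fun e => hz (e ▸ hxH)) hpq
    refine ⟨⟨g • H, mem_orbit H g⟩, hgp ▸ Set.smul_mem_smul_set hxH, fun h => hz ?_⟩
    rw [← hgq] at h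
    exact Set.smul_mem_smul_set_iff.1 h
  have hPt : ∀ p q : X, {E : O | p ∈ E.1}.ncard = {E : O | q ∈ E.1}.ncard := by
    intro p q
    obtain ⟨g, hg⟩ : ∃ g : G, g • p = q := by
      by_cases hpq : p = q
      · exact ⟨1, (one_smul G p).trans hpq⟩
      · obtain ⟨g, hg, -⟩ := S.two p q q p hpq (Ne.symm hpq)
        exact ⟨g, hg⟩
    rw [← hg, ← Set.ncard_image_of_injective {E : O | p ∈ E.1} (MulAction.injective g)]
    congr 1
    ext E
    refine ⟨?_, fun hE => ⟨g⁻¹ • E, ?_, smul_inv_smul g E⟩⟩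
    · rintro ⟨E', hE', rfl⟩
      show g • p ∈ (g • E').1
      rw [orbit.coe_smul]
      exact Set.smul_mem_smul_set hE'
    · show p ∈ (g⁻¹ • E).1
      rw [orbit.coe_smul, Set.mem_smul_set_iff_inv_smul_mem, inv_inv]
      exact hE
  have hPair : ∀ p q : X, p ≠ q →
      {E : O | p ∈ E.1 ∧ q ∈ E.1}.ncard = {E : O | x ∈ E.1 ∧ y ∈ E.1}.ncard := by
    intro p q hpq
    obtain ⟨g, hgp, hgq⟩ := S.two x y p q hxy hpq
    rw [← hgp, ← hgq, ← Set.ncard_image_of_injective {E : O | x ∈ E.1 ∧ y ∈ E.1}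
      (MulAction.injective g)]
    congr 1
    ext E
    refine ⟨fun hE => ⟨g⁻¹ • E, ?_, smul_inv_smul g E⟩, ?_⟩
    · show x ∈ (g⁻¹ • E).1 ∧ y ∈ (g⁻¹ • E).1
      rw [orbit.coe_smul, Set.mem_smul_set_iff_inv_smul_mem, Set.mem_smul_set_iff_inv_smul_mem,
        inv_inv]
      exact hE
    · rintro ⟨E', hE', rfl⟩
      show g • x ∈ (g • E').1 ∧ g • y ∈ (g • E').1
      rw [orbit.coe_smul]
      exact ⟨Set.smul_mem_smul_set hE'.1, Set.smul_mem_smul_set hE'.2⟩
  have hle2 : Nat.card X ≤ Nat.card O := by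
    refine fisher (fun (p : X) (E : O) => p ∈ E.1) ({E : O | x ∈ E.1}.ncard)
      ({E : O | x ∈ E.1 ∧ y ∈ E.1}.ncard) ?_ (fun p => hPt p x) hPair
    obtain ⟨E, hE, hE'⟩ := hsep x y hxy
    refine Set.ncard_lt_ncard ⟨fun F hF => hF.1, fun h => hE' (h hE).2⟩
  have hcard : Nat.card O = Nat.card X := le_antisymm hle1 hle2
  refine CfsgLib.ItoDesign63.main ?_ (stabilizer G H) ?_ ?_ ?_ ?_
  · rw [MulAction.is_two_pretransitive_iff]
    exact fun {a b c d} h h' => S.two a b c d h h'
  · rw [MulAction.index_stabilizer, ← hcard, Nat.card_coe_set_eq]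
  · intro h
    obtain ⟨⟨g, hg⟩, hgx⟩ := h.exists_smul_eq x z
    apply hz
    rw [← hgx]
    show g • x ∈ H
    rw [← mem_stabilizer_iff.1 hg]
    exact Set.smul_mem_smul_set hxH
  · intro p
    by_contra hc
    push Not at hc
    have hle : stabilizer G H ≤ stabilizer G p := fun g hg => hc ⟨g, hg⟩
    have htr : IsPretransitive G X := ⟨fun u w => by
      by_cases huw : u = w
      · exact ⟨1, (one_smul G u).trans huw⟩
      · obtain ⟨g, hg, -⟩ := S.two u w w u huw (Ne.symm huw)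
        exact ⟨g, hg⟩⟩
    have hidx : (stabilizer G H).index = (stabilizer G p).index := by
      rw [MulAction.index_stabilizer, MulAction.index_stabilizer_of_transitive, ← hcard,
        Nat.card_coe_set_eq]
    have he : stabilizer G H = stabilizer G p := by
      refine Subgroup.eq_of_le_of_card_ge hle (le_of_eq ?_)
      apply Nat.eq_of_mul_eq_mul_right (Nat.pos_of_ne_zero
        (Subgroup.index_ne_zero_of_finite (H := stabilizer G p)))
      rw [Subgroup.card_mul_index, ← hidx, Subgroup.card_mul_index]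
    have hinv : ∀ u w : X, u ≠ p → w ≠ p → u ∈ H → w ∈ H := by
      intro u w hu hw huH
      obtain ⟨g, hgp, hgu⟩ := S.two p u p w (Ne.symm hu) (Ne.symm hw)
      have hg : g ∈ stabilizer G H := he ▸ mem_stabilizer_iff.2 hgp
      rw [← hgu, ← mem_stabilizer_iff.1 hg]
      exact Set.smul_mem_smul_set huH
    obtain ⟨u, hu, hup⟩ := Set.exists_ne_of_one_lt_ncard hHpos p
    have hzp : z = p := by
      by_contra hzp
      exact hz (hinv u z hup hzp hu)
    have hHeq : H = {p}ᶜ := Set.ext fun w =>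
      ⟨fun hw e => hz (hzp.symm ▸ (show w = p from e) ▸ hw), fun hw => hinv u w hup hw hu⟩
    have h2 : H.ncard = Nat.card X - 1 := by
      rw [hHeq, Set.ncard_compl, Set.ncard_singleton]
    rw [← h2] at hv
    have : H.ncard * 2 ≤ H.ncard * (k - 1) := Nat.mul_le_mul_left _ (by omega)
    omega
  · have haH : a ∈ stabilizer G H := by
      rw [mem_stabilizer_iff]
      ext w
      rw [Set.mem_smul_set_iff_inv_smul_mem]
      show a • (a⁻¹ • w) = a⁻¹ • w ↔ a • w = w
      rw [smul_inv_smul, eq_inv_smul_iff]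
    refine ⟨x, ⟨a, haH⟩, fun e => ha1 (congrArg Subtype.val e), fun b hb => ?_⟩
    obtain ⟨⟨g, hg⟩, rfl⟩ := hb
    show a • (g • x) = g • x
    have : g • x ∈ g • H := Set.smul_mem_smul_set hxH
    rw [mem_stabilizer_iff.1 hg] at this
    exact this

end CfsgLib.ONanNormal
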