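import Cfsg.Agent.Lib.ONanNormal.Hyperplane
import Cfsg.Agent.Lib.Components.FStar
import Cfsg.Agent.Classical.SLGen

/-!
# O'Nan's theorem for an abelian normal subgroup of a point stabiliser
-/

set_option autoImplicit false
set_option linter.unusedSectionVars false

open MulAction
open scoped commutatorElement

namespace CfsgLib.ONanNormal

variable {G X : Type*} [Group G] [Finite G] [Finite X] [MulAction G X] [FaithfulSMul G X]

/-- A nonabelian simple normal subgroup with trivial centraliser is the generalized Fitting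
subgroup. -/
theorem generalizedFitting_eq {G : Type*} [Group G] [Finite G] (L : Subgroup G) [hn : L.Normal]
    (hs : IsSimpleGroup L) (hc : Subgroup.centralizer (L : Set G) = ⊥) :
    Cfsg.generalizedFittingSubgroup G = L := by
  have hnab : ¬ ∀ a b : L, a * b = b * a := fun h => by
    have hle : L ≤ Subgroup.centralizer (L : Set G) := fun a ha =>
      Subgroup.mem_centralizer_iff.2 fun b hb => congrArg Subtype.val (h ⟨b, hb⟩ ⟨a, ha⟩)
    have hb : L = ⊥ := le_bot_iff.1 (hc ▸ hle)
    obtain ⟨a, b, hab⟩ := hs.exists_pair_ne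
    exact hab (Subtype.ext (by
      rw [Subgroup.mem_bot.1 (hb ▸ a.2 : a.1 ∈ (⊥ : Subgroup G)),
        Subgroup.mem_bot.1 (hb ▸ b.2 : b.1 ∈ (⊥ : Subgroup G))]))
  have hcen : Subgroup.center L = ⊥ :=
    (hs.eq_bot_or_eq_top_of_normal _ inferInstance).resolve_right fun h => hnab fun a b =>
      (Subgroup.mem_center_iff.1 (h ▸ Subgroup.mem_top a : a ∈ Subgroup.center L) b).symm
  have hper : commutator L = ⊤ :=
    (hs.eq_bot_or_eq_top_of_normal _ inferInstance).resolve_left fun h => hnab fun a b => by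
      have h1 : ⁅a, b⁆ ∈ commutator L :=
        Subgroup.commutator_mem_commutator (Subgroup.mem_top a) (Subgroup.mem_top b)
      rw [h, Subgroup.mem_bot] at h1
      exact commutatorElement_eq_one_iff_mul_comm.1 h1
  have hcomp : Cfsg.IsComponent L := by
    refine ⟨hn.isSubnormal, Group.isPerfect_def.mpr hper, ?_⟩
    have hq : IsSimpleGroup (L ⧸ (⊥ : Subgroup L)) :=
      (QuotientGroup.quotientBot (G := L)).isSimpleGroup_congr.2 hs
    exact (QuotientGroup.quotientMulEquivOfEq hcen).isSimpleGroup_congr.2 hq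
  have hlay : Cfsg.layer G ≤ L := by
    refine sSup_le fun K hK => ?_
    rcases CfsgLib.Components.le_or_commutator_eq_bot hK hn.isSubnormal with h | h
    · exact h
    · exfalso
      have h2 : K ≤ Subgroup.centralizer (L : Set G) :=
        CfsgLib.Components.le_centralizer_of_commutator_eq_bot h
      rw [hc] at h2
      exact CfsgLib.Components.component_ne_bot hK (le_bot_iff.1 h2)
  have hfit : Cfsg.fittingSubgroup G = ⊥ := by
    rw [eq_bot_iff, ← hc]
    refine le_trans (le_of_eq rfl) ?_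
    have hFn : (Cfsg.fittingSubgroup G).Normal := CfsgLib.Fitting.fitting_normal
    rcases hs.eq_bot_or_eq_top_of_normal ((Cfsg.fittingSubgroup G).subgroupOf L) inferInstance
      with h | h
    · intro a ha
      refine Subgroup.mem_centralizer_iff.2 fun b hb => ?_
      have h1 : b * a * b⁻¹ * a⁻¹ ∈ Cfsg.fittingSubgroup G :=
        mul_mem (hFn.conj_mem a ha b) (inv_mem ha)
      have h2 : b * a * b⁻¹ * a⁻¹ ∈ L := by
        have : b * a * b⁻¹ * a⁻¹ = b * (a * b⁻¹ * a⁻¹) := by group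
        rw [this]
        exact mul_mem hb (hn.conj_mem _ (inv_mem hb) a)
      have h3 : (⟨_, h2⟩ : L) ∈ (Cfsg.fittingSubgroup G).subgroupOf L := h1
      rw [h, Subgroup.mem_bot] at h3
      have h4 : b * a * b⁻¹ * a⁻¹ = 1 := congrArg Subtype.val h3
      rwa [mul_inv_eq_one, mul_inv_eq_iff_eq_mul] at h4
    · exfalso
      have hle : L ≤ Cfsg.fittingSubgroup G := Subgroup.subgroupOf_eq_top.1 h
      have hsol := CfsgLib.Components.fitting_isSolvable (G := G)
      exact CfsgLib.Components.component_not_isSolvable hcomp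
        (solvable_of_solvable_injective (Subgroup.inclusion_injective hle))
  exact le_antisymm (sup_le hlay (hfit ▸ bot_le))
    (le_trans (CfsgLib.Components.component_le_layer hcomp) le_sup_left)

/-- The equivariant family attached to an abelian normal subgroup of a point stabiliser. -/
theorem exists_sys (h2 : IsMultiplyPretransitive G X 2) (x : X) (N : Subgroup G)
    (hle : N ≤ stabilizer G x) (hn : ∀ g ∈ stabilizer G x, ∀ n ∈ N, g * n * g⁻¹ ∈ N)
    (hab : ∀ a ∈ N, ∀ b ∈ N, a * b = b * a)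
    (hnsr : ∃ n ∈ N, n ≠ 1 ∧ ∃ y : X, y ≠ x ∧ n • y = y) :
    ∃ M : X → Subgroup G, Sys G X M ∧ M x = N := by
  obtain ⟨n, hnN, hn1, y, hyx, hny⟩ := hnsr
  have h2' : ∀ a b c d : X, a ≠ b → c ≠ d → ∃ g : G, g • a = c ∧ g • b = d :=
    fun a b c d h h' => (MulAction.is_two_pretransitive_iff (G := G) (α := X)).1 h2 h h'
  have htr : ∀ w : X, ∃ g : G, g • x = w := fun w => by
    by_cases h : x = w
    · exact ⟨1, (one_smul G x).trans h⟩
    · obtain ⟨g, hg, -⟩ := h2' x w w x h (Ne.symm h)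
      exact ⟨g, hg⟩
  choose c hc using htr
  let M : X → Subgroup G := fun w => N.map (MulAut.conj (c w)).toMonoidHom
  have mem : ∀ (w : X) (g : G) (e : G), g • x = w → (e ∈ M w ↔ g⁻¹ * e * g ∈ N) := by
    intro w g e hg
    have hs : (c w)⁻¹ * g ∈ stabilizer G x := by
      rw [mem_stabilizer_iff, mul_smul, hg, inv_smul_eq_iff, hc]
    rw [Subgroup.mem_map]
    constructor
    · rintro ⟨d, hd, rfl⟩
      have := hn _ (inv_mem hs) d hd
      simpa [mul_assoc] using this
    · intro h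
      refine ⟨(c w)⁻¹ * g * (g⁻¹ * e * g) * ((c w)⁻¹ * g)⁻¹, hn _ hs _ h, ?_⟩
      simp [mul_assoc]
  refine ⟨M, ⟨?_, ?_, ?_, h2', ?_, ?_⟩, ?_⟩
  · intro w e he
    have h := hle ((mem w (c w) e (hc w)).1 he)
    rw [mem_stabilizer_iff, mul_smul, mul_smul, hc, inv_smul_eq_iff, hc] at h
    exact h
  · intro g w e he
    rw [mem (g • w) (g * c w) _ (by rw [mul_smul, hc])]
    have := (mem w (c w) e (hc w)).1 he
    simpa [mul_assoc] using this
  · intro w a ha b hb
    have h := hab _ ((mem w (c w) a (hc w)).1 ha) _ ((mem w (c w) b (hc w)).1 hb)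
    have h' := congrArg (fun e => c w * e * (c w)⁻¹) h
    simpa [mul_assoc] using h'
  · exact fun g hg => eq_of_smul_eq_smul fun w => by rw [hg w, one_smul]
  · intro u w huw
    obtain ⟨g, hgx, hgy⟩ := h2' x y u w (Ne.symm hyx) huw
    refine ⟨g * n * g⁻¹, ?_, fun e => hn1 (conj_eq_one_iff.1 e), ?_⟩
    · rw [mem u g _ hgx]
      simpa [mul_assoc] using hnN
    · rw [← hgy, mul_smul, mul_smul, inv_smul_smul, hny]
  · ext e
    rw [mem x 1 e (one_smul G x)]
    simp

/-- O'Nan's theorem, abelian case. -/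
theorem main (h2 : IsMultiplyPretransitive G X 2) (x : X) (N : Subgroup G)
    (hle : N ≤ stabilizer G x) (hn : ∀ g ∈ stabilizer G x, ∀ n ∈ N, g * n * g⁻¹ ∈ N)
    (hab : ∀ a ∈ N, ∀ b ∈ N, a * b = b * a)
    (hnsr : ∃ n ∈ N, n ≠ 1 ∧ ∃ y : X, y ≠ x ∧ n • y = y) :
    ∃ (L : Subgroup G) (F : Type) (_ : Field F) (_ : Fintype F) (n : ℕ), 3 ≤ n ∧ L.Normal ∧
      Subgroup.centralizer (L : Set G) = ⊥ ∧
      Nonempty (↥L ≃* Matrix.ProjectiveSpecialLinearGroup (Fin n) F) ∧
      Cfsg.generalizedFittingSubgroup G = L ∧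
      Nat.card X * (Fintype.card F - 1) = Fintype.card F ^ n - 1 := by
  obtain ⟨M, S, -⟩ := exists_sys h2 x N hle hn hab hnsr
  obtain ⟨-, -, -, y, hyx, -⟩ := hnsr
  obtain ⟨m, F, iF, iFt, hm, hcard, L, hL, ⟨e⟩, hc⟩ := S.exists_psl ⟨x, y, Ne.symm hyx⟩
  refine ⟨L, F, iF, iFt, m + 1, by omega, hL, hc, ⟨e⟩, ?_, ?_⟩
  · have := hL
    exact generalizedFitting_eq L (e.isSimpleGroup_congr.2
      (Cfsg.Agent.Classical.psl_isSimpleGroup (by rw [Fintype.card_fin]; omega))) hc
  · rw [hcard, Nat.div_mul_cancel]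
    simpa using Nat.sub_dvd_pow_sub_pow (Fintype.card F) 1 (m + 1)

end CfsgLib.ONanNormal
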