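import Mathlib.GroupTheory.GroupAction.Quotient
import Mathlib.GroupTheory.GroupAction.MultipleTransitivity
import Mathlib.Algebra.Group.Subgroup.Pointwise
import Mathlib.Data.Set.Card
import Mathlib.Tactic.Group
import Mathlib.Tactic.Ring

/-!
# Two-transitive groups with an abelian normal subgroup of a point stabiliser

`Sys G X N`: `N x` is an abelian normal subgroup of the stabiliser of `x`, chosen
equivariantly, some of whose non-identity elements fix second points.  The main facts
are that different `N x` meet trivially, and the line lemma `line_comm`: the fixed points of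
`N x ∩ G_y` and of `N y ∩ G_x` coincide.
-/

set_option autoImplicit false
set_option linter.unusedSectionVars false

open MulAction

namespace CfsgLib.ONanNormal

variable {G X : Type*} [Group G] [MulAction G X]

/-- If a group acts freely, its order divides the number of points. -/
theorem card_dvd_of_free {A S : Type*} [Group A] [MulAction A S] [Finite S]
    (h : ∀ s : S, stabilizer A s = ⊥) : Nat.card A ∣ Nat.card S := by
  rw [Nat.card_congr (MulAction.selfEquivSigmaOrbits A S)]
  have hfr : ∀ s : S, Nat.card (orbit A s) = Nat.card A := fun s => by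
    rw [Nat.card_coe_set_eq, ← MulAction.index_stabilizer, h s, Subgroup.index_bot]
  classical
  have := Fintype.ofFinite (orbitRel.Quotient A S)
  rw [Nat.card_sigma]
  exact Finset.dvd_sum fun q _ => dvd_of_eq (hfr _).symm

/-- An equivariant family of abelian normal subgroups of point stabilisers. -/
structure Sys (G X : Type*) [Group G] [MulAction G X] (N : X → Subgroup G) : Prop where
  le : ∀ x : X, ∀ n ∈ N x, n • x = x
  conj : ∀ (g : G) (x : X), ∀ n ∈ N x, g * n * g⁻¹ ∈ N (g • x)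
  comm : ∀ x : X, ∀ a ∈ N x, ∀ b ∈ N x, a * b = b * a
  two : ∀ a b c d : X, a ≠ b → c ≠ d → ∃ g : G, g • a = c ∧ g • b = d
  faithful : ∀ g : G, (∀ x : X, g • x = x) → g = 1
  nsr : ∀ x y : X, x ≠ y → ∃ n ∈ N x, n ≠ 1 ∧ n • y = y

/-- The part of `N x` fixing `y`. -/
def L (N : X → Subgroup G) (x y : X) : Subgroup G := N x ⊓ stabilizer G y

theorem mem_L {N : X → Subgroup G} {x y : X} {g : G} :
    g ∈ L N x y ↔ g ∈ N x ∧ g • y = y := Iff.rfl

/-- The part of `N x` fixing `y` and `z`. -/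
def R (N : X → Subgroup G) (x y z : X) : Subgroup G := L N x y ⊓ stabilizer G z

theorem mem_R {N : X → Subgroup G} {x y z : X} {g : G} :
    g ∈ R N x y z ↔ g ∈ N x ∧ g • y = y ∧ g • z = z := and_assoc

/-- The line through two points: the fixed points of `N x ∩ G_y`. -/
def line (N : X → Subgroup G) (x y : X) : Set X := {z | ∀ g ∈ L N x y, g • z = z}

variable {N : X → Subgroup G}

theorem Sys.conj_iff (S : Sys G X N) (g : G) (x : X) (n : G) :
    g * n * g⁻¹ ∈ N (g • x) ↔ n ∈ N x := by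
  refine ⟨fun h => ?_, S.conj g x n⟩
  have := S.conj g⁻¹ (g • x) _ h
  simpa [mul_assoc] using this

theorem Sys.conj_fix (S : Sys G X N) {g : G} {x : X} (hg : g • x = x) {n : G} (hn : n ∈ N x) :
    g * n * g⁻¹ ∈ N x := by
  have := S.conj g x n hn
  rwa [hg] at this

variable [Finite G] [Finite X]

omit [Finite X] in
theorem Sys.card_inter_eq (S : Sys G X N) {a b c d : X} (hab : a ≠ b) (hcd : c ≠ d) :
    Nat.card (N a ⊓ N b : Subgroup G) = Nat.card (N c ⊓ N d : Subgroup G) := by
  obtain ⟨g, hga, hgb⟩ := S.two a b c d hab hcd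
  refine Nat.card_congr (Equiv.subtypeEquiv (MulAut.conj g).toEquiv fun n => ?_)
  show n ∈ N a ⊓ N b ↔ g * n * g⁻¹ ∈ N c ⊓ N d
  rw [← hga, ← hgb, Subgroup.mem_inf, Subgroup.mem_inf, S.conj_iff, S.conj_iff]

omit [Finite X] in
/-- The subgroups `N x` have trivial intersections. -/
theorem Sys.inf_eq_bot (S : Sys G X N) {x y : X} (hxy : x ≠ y) : N x ⊓ N y = ⊥ := by
  rw [eq_bot_iff]
  intro d hd
  by_contra hd1
  obtain ⟨z, hz⟩ : ∃ z, d • z ≠ z := by
    by_contra hc
    push Not at hc
    exact hd1 (S.faithful d hc)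
  have hdx : d • x = x := S.le x d hd.1
  have hdy : d • y = y := S.le y d hd.2
  have hxz : x ≠ z := fun e => hz (e ▸ hdx)
  have hyz : y ≠ z := fun e => hz (e ▸ hdy)
  -- `N w ∩ N z` is moved to itself by `d` when `d ∈ N w`
  have key : ∀ w : X, d ∈ N w → w ≠ z → N w ⊓ N z = N z ⊓ N (d • z) := by
    intro w hdw hwz
    have h1 : N w ⊓ N z ≤ N z ⊓ N (d • z) := fun c hc => by
      refine ⟨hc.2, ?_⟩
      have h := S.conj d z c hc.2
      rwa [S.comm w d hdw c hc.1, mul_inv_cancel_right] at h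
    exact Subgroup.eq_of_le_of_card_ge h1 (S.card_inter_eq hwz (Ne.symm hz)).ge
  have hx := key x hd.1 hxz
  have hy := key y hd.2 hyz
  have h1 : N x ⊓ N z ≤ N x ⊓ N y := fun c hc => ⟨hc.1, by
    rw [hx, ← hy] at hc
    exact hc.1⟩
  have h2 := Subgroup.eq_of_le_of_card_ge h1 (S.card_inter_eq hxz hxy).ge
  have h3 : d ∈ N x ⊓ N z := h2 ▸ hd
  exact hz (S.le z d h3.2)

omit [Finite X] in
theorem Sys.smul_eq_of_commute (S : Sys G X N) {x : X} {a g : G} (ha : a ∈ N x) (ha1 : a ≠ 1)
    (h : g * a = a * g) : g • x = x := by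
  by_contra hne
  apply ha1
  have h1 := S.conj g x a ha
  rw [h, mul_inv_cancel_right] at h1
  have := S.inf_eq_bot (Ne.symm hne)
  exact Subgroup.mem_bot.1 (this ▸ ⟨ha, h1⟩)

omit [Finite X] in
theorem Sys.commute_cross (S : Sys G X N) {x y : X} (hxy : x ≠ y) {a b : G} (ha : a ∈ N x)
    (hb : b ∈ N y) (hay : a • y = y) (hbx : b • x = x) : a * b = b * a := by
  have h1 : a * b * a⁻¹ * b⁻¹ ∈ N y := mul_mem (S.conj_fix hay hb) (inv_mem hb)
  have h2 : a * b * a⁻¹ * b⁻¹ ∈ N x := by
    rw [show a * b * a⁻¹ * b⁻¹ = a * (b * a⁻¹ * b⁻¹) by group]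
    exact mul_mem ha (S.conj_fix hbx (inv_mem ha))
  have h3 : a * b * a⁻¹ * b⁻¹ = 1 := Subgroup.mem_bot.1 (S.inf_eq_bot hxy ▸ ⟨h2, h1⟩)
  rw [mul_inv_eq_one, mul_inv_eq_iff_eq_mul] at h3
  exact h3

omit [Finite X] in
theorem Sys.card_L_eq (S : Sys G X N) {a b c d : X} (hab : a ≠ b) (hcd : c ≠ d) :
    Nat.card (L N a b) = Nat.card (L N c d) := by
  obtain ⟨g, hga, hgb⟩ := S.two a b c d hab hcd
  refine Nat.card_congr (Equiv.subtypeEquiv (MulAut.conj g).toEquiv fun n => ?_)
  show n ∈ L N a b ↔ g * n * g⁻¹ ∈ L N c d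
  rw [mem_L, mem_L, ← hga, ← hgb, S.conj_iff, mul_smul, mul_smul, inv_smul_smul,
    smul_left_cancel_iff]

theorem R_le_L (x y z : X) : R N x y z ≤ L N x y := inf_le_left

theorem R_comm (x y z : X) : R N x y z = R N x z y := by
  ext g; rw [mem_R, mem_R]; exact ⟨fun h => ⟨h.1, h.2.2, h.2.1⟩, fun h => ⟨h.1, h.2.2, h.2.1⟩⟩

/-- The semiregular counting step of the line lemma. -/
theorem Sys.R_dvd (S : Sys G X N) {x y z : X} (hxy : x ≠ y) (hyz : y ≠ z) :
    Nat.card (R N x y z) ∣ Nat.card (R N y x z) := by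
  classical
  set A := R N x y z with hA
  let T := {n : G // n ∈ L N y z ∧ n • x ≠ x}
  have hinv : ∀ (a : A) (n : G), n ∈ L N y z → n • x ≠ x →
      (a : G) * n * (a : G)⁻¹ ∈ L N y z ∧ ((a : G) * n * (a : G)⁻¹) • x ≠ x := by
    intro a n hn hnx
    obtain ⟨hax, hay, haz⟩ := mem_R.1 a.2
    have haxx : (a : G) • x = x := S.le x _ hax
    refine ⟨⟨S.conj_fix hay hn.1, ?_⟩, ?_⟩
    · show ((a : G) * n * (a : G)⁻¹) • z = z
      rw [mul_smul, mul_smul, inv_smul_eq_iff.2 haz.symm, hn.2, haz]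
    · rw [mul_smul, mul_smul, inv_smul_eq_iff.2 haxx.symm]
      intro h
      exact hnx (MulAction.injective (a : G) (h.trans haxx.symm))
  let _ : MulAction A T :=
    { smul := fun a n => ⟨(a : G) * n.1 * (a : G)⁻¹, hinv a n.1 n.2.1 n.2.2⟩
      one_smul := fun n => Subtype.ext (by
        show ((1 : A) : G) * n.1 * ((1 : A) : G)⁻¹ = n.1
        simp)
      mul_smul := fun a b n => Subtype.ext (by
        show ((a * b : A) : G) * n.1 * ((a * b : A) : G)⁻¹
          = (a : G) * ((b : G) * n.1 * (b : G)⁻¹) * (a : G)⁻¹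
        simp [mul_assoc]) }
  have hfree : ∀ n : T, stabilizer A n = ⊥ := by
    intro n
    rw [eq_bot_iff]
    intro a ha
    have ha' : (a : G) * n.1 * (a : G)⁻¹ = n.1 := congrArg Subtype.val ha
    rw [mul_inv_eq_iff_eq_mul] at ha'
    rw [Subgroup.mem_bot]
    by_contra h1
    exact n.2.2 (S.smul_eq_of_commute (mem_R.1 a.2).1 (fun e => h1 (Subtype.ext e)) ha'.symm)
  have h1 := card_dvd_of_free hfree
  have h2 : Nat.card T + Nat.card (R N y x z) = Nat.card (L N y z) := by
    have e : ((L N y z : Set G) \ (R N y x z : Set G)) = {n | n ∈ L N y z ∧ n • x ≠ x} := by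
      ext n
      simp only [Set.mem_sdiff, SetLike.mem_coe, mem_R, Set.mem_ofPred_eq]
      refine ⟨fun h => ⟨h.1, fun hx => h.2 ⟨(mem_L.1 h.1).1, hx, (mem_L.1 h.1).2⟩⟩,
        fun h => ⟨h.1, fun hc => h.2 hc.2.1⟩⟩
    have h := Set.ncard_sdiff_add_ncard_of_subset
      (show (R N y x z : Set G) ⊆ (L N y z : Set G) by rw [R_comm]; exact R_le_L y z x)
    rw [e] at h
    exact h
  have h3 : Nat.card A ∣ Nat.card (L N y z) := by
    rw [S.card_L_eq hyz hxy]
    exact Subgroup.card_dvd_of_le (R_le_L x y z)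
  rw [← h2] at h3
  exact (Nat.dvd_add_right h1).1 h3

theorem Sys.card_R_eq (S : Sys G X N) {x y z : X} (hxy : x ≠ y) (hyz : y ≠ z) (hxz : x ≠ z) :
    Nat.card (R N x y z) = Nat.card (R N y x z) :=
  Nat.dvd_antisymm (S.R_dvd hxy hyz) (S.R_dvd hxy.symm hxz)

omit [Finite X] [Finite G] in
theorem Sys.left_mem_line (S : Sys G X N) (x y : X) : x ∈ line N x y := fun g hg => S.le x g hg.1

omit [Finite X] [Finite G] in
theorem right_mem_line (x y : X) : y ∈ line N x y := fun _ hg => hg.2

theorem Sys.line_subset_line (S : Sys G X N) {x y : X} (hxy : x ≠ y) :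
    line N x y ⊆ line N y x := by
  intro z hz
  by_cases hzx : z = x
  · rw [hzx]; exact right_mem_line y x
  by_cases hzy : z = y
  · rw [hzy]; exact S.left_mem_line y x
  have h1 : R N x y z = L N x y :=
    le_antisymm (R_le_L x y z) fun g hg => ⟨hg, hz g hg⟩
  have h2 := S.card_R_eq hxy (Ne.symm hzy) (Ne.symm hzx)
  rw [h1, S.card_L_eq hxy hxy.symm] at h2
  have h3 : R N y x z = L N y x := Subgroup.eq_of_le_of_card_ge (R_le_L y x z) h2.le
  intro g hg
  rw [← h3] at hg
  exact (mem_R.1 hg).2.2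

/-- The line lemma. -/
theorem Sys.line_comm (S : Sys G X N) {x y : X} (hxy : x ≠ y) : line N x y = line N y x :=
  Set.Subset.antisymm (S.line_subset_line hxy) (S.line_subset_line hxy.symm)

theorem Sys.L_eq_of_mem (S : Sys G X N) {x y z : X} (hxy : x ≠ y) (hz : z ∈ line N x y)
    (hzx : z ≠ x) : L N x z = L N x y :=
  (Subgroup.eq_of_le_of_card_ge (show L N x y ≤ L N x z from fun g hg => mem_L.2 ⟨hg.1, hz g hg⟩)
    (S.card_L_eq hxy hzx.symm).ge).symm

theorem Sys.line_eq_left (S : Sys G X N) {x y z : X} (hxy : x ≠ y) (hz : z ∈ line N x y)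
    (hzx : z ≠ x) : line N x z = line N x y := by
  unfold line
  rw [S.L_eq_of_mem hxy hz hzx]

/-- Two points of a line determine it. -/
theorem Sys.line_eq (S : Sys G X N) {x y w z : X} (hxy : x ≠ y) (hw : w ∈ line N x y)
    (hz : z ∈ line N x y) (hwz : w ≠ z) : line N w z = line N x y := by
  by_cases hwx : w = x
  · subst hwx
    exact S.line_eq_left hxy hz hwz.symm
  have h1 : line N w x = line N x y := by
    rw [S.line_comm hwx]
    exact S.line_eq_left hxy hw hwx
  rw [← h1]
  exact S.line_eq_left hwx (h1 ▸ hz) hwz.symm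

omit [Finite X] [Finite G] in
theorem Sys.smul_mem_line (S : Sys G X N) {x y : X} {n : G} (hn : n ∈ N x) :
    n • y ∈ line N x y := fun g hg => by
  rw [← mul_smul, S.comm x g hg.1 n hn, mul_smul, hg.2]

/-- An element of `N x` fixing two points fixes their line pointwise. -/
theorem Sys.fix_line (S : Sys G X N) {x y z w : X} {a : G} (ha : a ∈ N x) (hyz : y ≠ z)
    (hy : a • y = y) (hz : a • z = z) (hw : w ∈ line N y z) : a • w = w := by
  by_cases hxl : x ∈ line N y z
  · -- then the line is the line of `x` and one of `y`, `z`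
    by_cases hyx : y = x
    · subst hyx
      exact hw a ⟨ha, hz⟩
    · have e : line N x y = line N y z := S.line_eq hyz hxl (S.left_mem_line y z) (Ne.symm hyx)
      exact (e ▸ hw) a ⟨ha, hy⟩
  · by_contra hne
    have haw : a • w ∈ line N y z := by
      intro g hg
      -- conjugate back by `a`
      have hg' : a⁻¹ * g * a ∈ L N y z := by
        refine ⟨?_, ?_⟩
        · have := S.conj_fix (g := a⁻¹) (inv_smul_eq_iff.2 hy.symm) hg.1
          simpa using this
        · show (a⁻¹ * g * a) • z = z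
          rw [mul_smul, mul_smul, hz, hg.2, inv_smul_eq_iff.2 hz.symm]
      have := hw _ hg'
      rw [mul_smul, mul_smul, inv_smul_eq_iff] at this
      exact this
    have hwx : x ≠ w := fun e => hxl (e ▸ hw)
    have h1 : line N x w = line N y z := by
      rw [← S.line_eq hwx (right_mem_line x w) (S.smul_mem_line ha) (Ne.symm hne)]
      exact S.line_eq hyz hw haw (Ne.symm hne)
    exact hxl (h1 ▸ S.left_mem_line x w)

end CfsgLib.ONanNormal
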